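import Cfsg.Agent.Lib.SporRecognition.CosetCert.Chain
import Cfsg.Agent.Lib.FusionExamples.J4Sub.Defs7

/-! Generated coset-enumeration certificate: J47 over <g1, g12, g15, g20, a>, 23 cosets. -/

set_option autoImplicit false
set_option maxRecDepth 20000
set_option linter.all false
set_option Elab.async false

namespace CfsgLib.FusionExamples.J4Sub.Stab.C23

open CfsgLib.SporRecognition.CosetCert

def T1Lit : Nat := 0x1614abd73625b2258e87055119840
noncomputable def T1 (u : Nat) : Nat := Nat.land (Nat.shiftRight T1Lit (Nat.mul 5 u)) 31
def T2Lit : Nat := 0x2a748309591daf895c848acb184c0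
noncomputable def T2 (u : Nat) : Nat := Nat.land (Nat.shiftRight T2Lit (Nat.mul 5 u)) 31
def T3Lit : Nat := 0x59f599e2da49905212b710c518041
noncomputable def T3 (u : Nat) : Nat := Nat.land (Nat.shiftRight T3Lit (Nat.mul 5 u)) 31
def T4Lit : Nat := 0x5a8f9ba2ca9e0d42d2a9148618402
noncomputable def T4 (u : Nat) : Nat := Nat.land (Nat.shiftRight T4Lit (Nat.mul 5 u)) 31
def T5Lit : Nat := 0x66d63ed2851d52912a3acc818a20
noncomputable def T5 (u : Nat) : Nat := Nat.land (Nat.shiftRight T5Lit (Nat.mul 5 u)) 31
def T6Lit : Nat := 0x458eac02f93693321243956a18ac0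
noncomputable def T6 (u : Nat) : Nat := Nat.land (Nat.shiftRight T6Lit (Nat.mul 5 u)) 31
def T7Lit : Nat := 0x5aad70591a0df05a447248a89a8c0
noncomputable def T7 (u : Nat) : Nat := Nat.land (Nat.shiftRight T7Lit (Nat.mul 5 u)) 31
def T8Lit : Nat := 0x5aaf19a0c6ce9158944404a772640
noncomputable def T8 (u : Nat) : Nat := Nat.land (Nat.shiftRight T8Lit (Nat.mul 5 u)) 31
def T9Lit : Nat := 0x15e6acad09d02c59d0413a296a860
noncomputable def T9 (u : Nat) : Nat := Nat.land (Nat.shiftRight T9Lit (Nat.mul 5 u)) 31
def T10Lit : Nat := 0x466e7c8b0a986c58889552c809da0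
noncomputable def T10 (u : Nat) : Nat := Nat.land (Nat.shiftRight T10Lit (Nat.mul 5 u)) 31
def T11Lit : Nat := 0x2eb362a06789d4226483c4b603461
noncomputable def T11 (u : Nat) : Nat := Nat.land (Nat.shiftRight T11Lit (Nat.mul 5 u)) 31
def T12Lit : Nat := 0x12aca24d17b453b49483c0ab0b803
noncomputable def T12 (u : Nat) : Nat := Nat.land (Nat.shiftRight T12Lit (Nat.mul 5 u)) 31
def T13Lit : Nat := 0x54c914e4e596c86bc3165003540e4
noncomputable def T13 (u : Nat) : Nat := Nat.land (Nat.shiftRight T13Lit (Nat.mul 5 u)) 31
def T14Lit : Nat := 0x36c6945025416778e8c0d5c024d25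
noncomputable def T14 (u : Nat) : Nat := Nat.land (Nat.shiftRight T14Lit (Nat.mul 5 u)) 31
def T15Lit : Nat := 0x5aa79bcac93930585a2a12261a140
noncomputable def T15 (u : Nat) : Nat := Nat.land (Nat.shiftRight T15Lit (Nat.mul 5 u)) 31
def T16Lit : Nat := 0x5aa79bcac93930585a2a12261a140
noncomputable def T16 (u : Nat) : Nat := Nat.land (Nat.shiftRight T16Lit (Nat.mul 5 u)) 31

noncomputable def tabs : CfsgLib.FusionExamples.J4Sub.Stab.Gen → Bool → Nat → Nat :=
  fun a b => match a with
  | .g1 => bif b then T1 else T2
  | .g5 => bif b then T3 else T4
  | .g12 => bif b then T5 else T6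
  | .g15 => bif b then T7 else T8
  | .g20 => bif b then T9 else T10
  | .g22 => bif b then T11 else T12
  | .g25 => bif b then T13 else T14
  | .a => bif b then T15 else T16

def lets : List (CfsgLib.FusionExamples.J4Sub.Stab.Gen × Bool) := [(.g1, true), (.g1, false), (.g5, true), (.g5, false), (.g12, true), (.g12, false), (.g15, true), (.g15, false), (.g20, true), (.g20, false), (.g22, true), (.g22, false), (.g25, true), (.g25, false), (.a, true), (.a, false)]
def invols : List CfsgLib.FusionExamples.J4Sub.Stab.Gen := []
def pairs : List (CfsgLib.FusionExamples.J4Sub.Stab.Gen × CfsgLib.FusionExamples.J4Sub.Stab.Gen) := []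
def extraW : List (List (CfsgLib.FusionExamples.J4Sub.Stab.Gen × Bool)) := [
  [(.g22, false), (.g22, false), (.g22, false)],
  [(.g20, false), (.g20, false), (.g20, false)],
  [(.g15, false), (.g15, false), (.g15, false)],
  [(.g12, false), (.g12, false), (.g12, false)],
  [(.g5, false), (.g5, false), (.g5, false)],
  [(.g1, false), (.g1, false), (.g1, false)],
  [(.g22, false), (.g20, false), (.g22, true), (.g5, true)],
  [(.g25, false), (.g25, false), (.g22, false), (.g20, false), (.g15, true)],
  [(.g25, false), (.g25, false), (.g5, false), (.g22, false), (.g15, true)],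
  [(.g22, false), (.g15, false), (.g1, true), (.g5, false), (.g20, false)],
  [(.g12, false), (.g1, true), (.g5, true), (.g1, true), (.g5, true)],
  [(.g25, false), (.g12, false), (.g15, false), (.g12, true), (.g25, true), (.g22, true)],
  [(.g20, false), (.g1, false), (.g20, true), (.g1, false), (.g12, true), (.g1, true)],
  [(.g20, false), (.g1, false), (.g20, true), (.g5, true), (.g12, true), (.g5, false)],
  [(.g20, false), (.g15, true), (.g12, false), (.g15, true), (.g12, true), (.g15, false)],
  [(.g25, false), (.g25, false), (.g25, false), (.g22, false), (.g25, false), (.g5, true), (.g12, true)],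
  [(.g25, false), (.g25, false), (.g25, false), (.g22, false), (.g15, true), (.g25, true), (.g22, false)],
  [(.g25, false), (.g25, false), (.g22, false), (.g15, true), (.g12, false), (.g15, false), (.g12, true)],
  [(.g25, false), (.g22, true), (.g12, true), (.g15, true), (.g5, true), (.g20, true), (.g1, true)],
  [(.g20, false), (.g1, false), (.g20, true), (.g5, true), (.g1, true), (.g5, true), (.g1, true)],
  [(.g25, false), (.g25, false), (.g25, false), (.g5, false), (.g25, true), (.g25, true), (.g25, true), (.g22, true)],
  [(.g25, false), (.g25, false), (.g15, true), (.g12, true), (.g20, false), (.g1, false), (.g5, true), (.g22, true)],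
  [(.g22, false), (.g5, false), (.g1, false), (.g5, true), (.g22, false), (.g5, false), (.g1, false), (.g5, true)],
  [(.g20, false), (.g12, false), (.g15, false), (.g12, true), (.g20, false), (.g12, false), (.g15, false), (.g12, true)],
  [(.g20, false), (.g1, false), (.g12, false), (.g15, false), (.g20, false), (.g1, false), (.g12, false), (.g15, false)],
  [(.g20, false), (.g1, false), (.g20, true), (.g12, false), (.g20, false), (.g1, false), (.g20, true), (.g12, false)],
  [(.g25, false), (.g25, false), (.g25, false), (.g15, true), (.g12, false), (.g15, false), (.g25, true), (.g22, false), (.g5, false), (.g22, true)],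
  [(.g25, false), (.g25, false), (.g22, false), (.g5, false), (.g20, false), (.g1, false), (.g5, true), (.g1, true), (.g20, true), (.g22, true)],
  [(.g25, false), (.g25, false), (.g15, false), (.g25, true), (.g25, true), (.g15, true), (.g12, true), (.g25, true), (.g25, true), (.g22, false)],
  [(.g25, false), (.g25, false), (.g5, false), (.g1, true), (.g20, false), (.g1, false), (.g5, true), (.g12, false), (.g15, false), (.g22, true)],
  [(.g20, false), (.g1, true), (.g20, false), (.g1, true), (.g20, false), (.g1, true), (.g20, false), (.g1, true), (.g20, false), (.g1, true)],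
  [(.g15, false), (.g12, true), (.g15, false), (.g12, true), (.g15, false), (.g12, true), (.g15, false), (.g12, true), (.g15, false), (.g12, true)],
  [(.g25, false), (.g25, false), (.g25, false), (.g25, false), (.g25, false), (.g25, false), (.g25, false), (.g25, false), (.g25, false), (.g25, false), (.g25, false), (.g25, false), (.g25, false), (.g25, false), (.g25, false), (.g25, false), (.g25, false), (.g25, false), (.g25, false), (.g25, false), (.g25, false), (.g25, false), (.g25, false)],
  [(.g1, true), (.g12, false), (.g1, true), (.g12, false), (.g1, true), (.a, false)]]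
def relW : List (List (CfsgLib.FusionExamples.J4Sub.Stab.Gen × Bool)) := [
  [(.g22, false), (.g22, false), (.g22, false)],
  [(.g20, false), (.g20, false), (.g20, false)],
  [(.g15, false), (.g15, false), (.g15, false)],
  [(.g12, false), (.g12, false), (.g12, false)],
  [(.g5, false), (.g5, false), (.g5, false)],
  [(.g1, false), (.g1, false), (.g1, false)],
  [(.g22, false), (.g20, false), (.g22, true), (.g5, true)],
  [(.g25, false), (.g25, false), (.g22, false), (.g20, false), (.g15, true)],
  [(.g25, false), (.g25, false), (.g5, false), (.g22, false), (.g15, true)],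
  [(.g22, false), (.g15, false), (.g1, true), (.g5, false), (.g20, false)],
  [(.g12, false), (.g1, true), (.g5, true), (.g1, true), (.g5, true)],
  [(.g25, false), (.g12, false), (.g15, false), (.g12, true), (.g25, true), (.g22, true)],
  [(.g20, false), (.g1, false), (.g20, true), (.g1, false), (.g12, true), (.g1, true)],
  [(.g20, false), (.g1, false), (.g20, true), (.g5, true), (.g12, true), (.g5, false)],
  [(.g20, false), (.g15, true), (.g12, false), (.g15, true), (.g12, true), (.g15, false)],
  [(.g25, false), (.g25, false), (.g25, false), (.g22, false), (.g25, false), (.g5, true), (.g12, true)],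
  [(.g25, false), (.g25, false), (.g25, false), (.g22, false), (.g15, true), (.g25, true), (.g22, false)],
  [(.g25, false), (.g25, false), (.g22, false), (.g15, true), (.g12, false), (.g15, false), (.g12, true)],
  [(.g25, false), (.g22, true), (.g12, true), (.g15, true), (.g5, true), (.g20, true), (.g1, true)],
  [(.g20, false), (.g1, false), (.g20, true), (.g5, true), (.g1, true), (.g5, true), (.g1, true)],
  [(.g25, false), (.g25, false), (.g25, false), (.g5, false), (.g25, true), (.g25, true), (.g25, true), (.g22, true)],
  [(.g25, false), (.g25, false), (.g15, true), (.g12, true), (.g20, false), (.g1, false), (.g5, true), (.g22, true)],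
  [(.g22, false), (.g5, false), (.g1, false), (.g5, true), (.g22, false), (.g5, false), (.g1, false), (.g5, true)],
  [(.g20, false), (.g12, false), (.g15, false), (.g12, true), (.g20, false), (.g12, false), (.g15, false), (.g12, true)],
  [(.g20, false), (.g1, false), (.g12, false), (.g15, false), (.g20, false), (.g1, false), (.g12, false), (.g15, false)],
  [(.g20, false), (.g1, false), (.g20, true), (.g12, false), (.g20, false), (.g1, false), (.g20, true), (.g12, false)],
  [(.g25, false), (.g25, false), (.g25, false), (.g15, true), (.g12, false), (.g15, false), (.g25, true), (.g22, false), (.g5, false), (.g22, true)],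
  [(.g25, false), (.g25, false), (.g22, false), (.g5, false), (.g20, false), (.g1, false), (.g5, true), (.g1, true), (.g20, true), (.g22, true)],
  [(.g25, false), (.g25, false), (.g15, false), (.g25, true), (.g25, true), (.g15, true), (.g12, true), (.g25, true), (.g25, true), (.g22, false)],
  [(.g25, false), (.g25, false), (.g5, false), (.g1, true), (.g20, false), (.g1, false), (.g5, true), (.g12, false), (.g15, false), (.g22, true)],
  [(.g20, false), (.g1, true), (.g20, false), (.g1, true), (.g20, false), (.g1, true), (.g20, false), (.g1, true), (.g20, false), (.g1, true)],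
  [(.g15, false), (.g12, true), (.g15, false), (.g12, true), (.g15, false), (.g12, true), (.g15, false), (.g12, true), (.g15, false), (.g12, true)],
  [(.g25, false), (.g25, false), (.g25, false), (.g25, false), (.g25, false), (.g25, false), (.g25, false), (.g25, false), (.g25, false), (.g25, false), (.g25, false), (.g25, false), (.g25, false), (.g25, false), (.g25, false), (.g25, false), (.g25, false), (.g25, false), (.g25, false), (.g25, false), (.g25, false), (.g25, false), (.g25, false)],
  [(.g1, true), (.g12, false), (.g1, true), (.g12, false), (.g1, true), (.a, false)]]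
def subW : List (List (CfsgLib.FusionExamples.J4Sub.Stab.Gen × Bool)) := [
  [(.g1, true)],
  [(.g12, true)],
  [(.g15, true)],
  [(.g20, true)],
  [(.a, true)]]

end CfsgLib.FusionExamples.J4Sub.Stab.C23
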